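import Groth.Agent.RHomCx.Restrict
import Groth.Agent.FlatFunLib.ModCond
import Mathlib.CategoryTheory.Retract

/-!
# Sections with supports in an injective are injective
-/

set_option autoImplicit false
set_option backward.isDefEq.respectTransparency false
set_option backward.isDefEq.respectTransparency.types false
set_option linter.style.haveILetI false

universe u v v' w w'

open CategoryTheory Limits AlgebraicGeometry

namespace Groth.Agent.GammaInj

variable {C : Type w} [Category.{v} C] [Preadditive C] {D : Type w'} [Category.{v'} D]

/-- If the left adjoint `L` of `R` has itself a left adjoint with monic counit, the kernel of the unit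
at an injective is injective. -/
theorem injective_kernel_unit {L : C ⥤ D} {R : D ⥤ C} {E : D ⥤ C} (adj : L ⊣ R) (adj' : E ⊣ L)
    (hm : ∀ c, Mono (adj'.counit.app c)) (F : C) [Injective F] [HasKernel (adj.unit.app F)] :
    Injective (kernel (adj.unit.app F)) := by
  let c := R.obj (L.obj F)
  let σ : E.obj (L.obj c) ⟶ F := (adj'.homEquiv _ _).symm (adj.counit.app (L.obj F))
  haveI := hm c
  let s : c ⟶ F := Injective.factorThru σ (adj'.counit.app c)
  have hs : L.map s = adj.counit.app (L.obj F) := by
    have h1 : adj'.counit.app c ≫ s = σ := Injective.comp_factorThru _ _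
    have h2 := congrArg (adj'.homEquiv _ _) h1
    rw [Equiv.apply_symm_apply, Adjunction.homEquiv_naturality_right] at h2
    rw [← h2, Adjunction.homEquiv_unit, adj'.right_triangle_components, Category.id_comp]
  have hsec : s ≫ adj.unit.app F = 𝟙 c := by
    refine (adj.homEquiv _ _).symm.injective ?_
    rw [adj.homEquiv_naturality_left_symm, hs, ← Adjunction.homEquiv_id, Equiv.symm_apply_apply, Category.comp_id,
      Adjunction.homEquiv_counit, CategoryTheory.Functor.map_id, Category.id_comp]
  let r : F ⟶ kernel (adj.unit.app F) := kernel.lift _ (𝟙 F - (show F ⟶ F from adj.unit.app F ≫ s)) (by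
    rw [Preadditive.sub_comp, Category.id_comp, Category.assoc, hsec]
    exact sub_eq_zero.2 (Category.comp_id _).symm)
  have hr : kernel.ι (adj.unit.app F) ≫ r = 𝟙 _ := by
    rw [← cancel_mono (kernel.ι (adj.unit.app F)), Category.assoc, kernel.lift_ι, Preadditive.comp_sub,
      kernel.condition_assoc, zero_comp, sub_zero]
    exact (Category.comp_id _).trans (Category.id_comp _).symm
  exact Retract.injective ⟨kernel.ι _, r, hr⟩

variable {U X : Scheme.{u}} (j : U ⟶ X) [IsOpenImmersion j]

theorem isZero_stalk_extZero (M : U.Modules) (y : X) (hy : y ∉ Set.range j.base) :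
    IsZero ((DerSch.stalkFunctor X y).obj ((CxOX.extZero j).obj M)) := by
  let S := (DerSch.stalkFunctor X y).obj ((CxOX.extZero j).obj M)
  have hz : IsZero ((Scheme.Modules.restrictFunctor j).obj ((Groth.Agent.KFlat.sky y).obj S)) := by
    rw [IsZero.iff_id_eq_zero]
    refine Scheme.Modules.hom_ext _ _ fun W => ?_
    ext g
    funext h
    exact absurd (show y ∈ Set.range j.base from by
      obtain ⟨z, -, hz⟩ := h.down
      exact ⟨z, hz⟩) hy
  rw [IsZero.iff_id_eq_zero]
  exact ((Groth.Agent.KFlat.skyAdjunction y).homEquiv _ _).injective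
    (((CxOX.extZeroAdj j).homEquiv _ _).injective (hz.eq_of_tgt _ _))

theorem mono_extZero_counit (c : X.Modules) : Mono ((CxOX.extZeroAdj j).counit.app c) := by
  haveI := ProjForm.isIso_extZero_unit j
  refine FlatFunLib.mono_of_stalks _ fun y => ?_
  by_cases hy : y ∈ Set.range j.base
  · haveI : IsIso ((Scheme.Modules.restrictFunctor j).map ((CxOX.extZeroAdj j).counit.app c)) := by
      haveI : IsIso ((CxOX.extZeroAdj j).unit.app ((Scheme.Modules.restrictFunctor j).obj c) ≫
          (Scheme.Modules.restrictFunctor j).map ((CxOX.extZeroAdj j).counit.app c)) := by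
        rw [(CxOX.extZeroAdj j).right_triangle_components]; infer_instance
      exact IsIso.of_isIso_comp_left ((CxOX.extZeroAdj j).unit.app _) _
    haveI := (ProjForm.isIso_restrictJ_iff j _).1 this y hy
    infer_instance
  · exact ⟨fun g h _ => (isZero_stalk_extZero j _ y hy).eq_of_tgt g h⟩

theorem injective_gammaZ (I : X.Modules) [Injective I] :
    Injective (kernel ((Scheme.Modules.restrictAdjunction j).unit.app I)) :=
  injective_kernel_unit (Scheme.Modules.restrictAdjunction j) (CxOX.extZeroAdj j) (mono_extZero_counit j) I

end Groth.Agent.GammaInj
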